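import Mathlib.LinearAlgebra.Projectivization.Basic
import Mathlib.RingTheory.MvPolynomial.Homogeneous
import Mathlib.LinearAlgebra.Dual.Lemmas
/-!
Small sets of points with the Cayley-Bacharach property.
-/

set_option autoImplicit false
universe u

open MvPolynomial

namespace Groth.Agent.SmallAlg

variable {k : Type u} [Field k]

/-- The form attached to a functional. -/
noncomputable def linForm (f : Module.Dual k (Fin 4 → k)) : MvPolynomial (Fin 4) k :=
  ∑ i, C (f (Pi.single i 1)) * X i

theorem eval_linForm (f : Module.Dual k (Fin 4 → k)) (v : Fin 4 → k) : eval v (linForm f) = f v := by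
  rw [linForm, map_sum]
  conv_rhs => rw [pi_eq_sum_univ' v, map_sum]
  refine Finset.sum_congr rfl fun i _ => ?_
  rw [map_mul, eval_C, eval_X, map_smul, smul_eq_mul, mul_comm]

theorem isHomogeneous_linForm (f : Module.Dual k (Fin 4 → k)) : (linForm f).IsHomogeneous 1 :=
  IsHomogeneous.sum _ _ _ fun i _ => by simpa using (isHomogeneous_X k i).C_mul _

theorem exists_form {W : Submodule k (Fin 4 → k)} {z : Projectivization k (Fin 4 → k)} (h : ¬ z.submodule ≤ W) :
    ∃ f : Module.Dual k (Fin 4 → k), f z.rep ≠ 0 ∧ ∀ v ∈ W, f v = 0 := by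
  have hz : z.rep ∉ W := fun hm => h (by rw [z.submodule_eq, Submodule.span_singleton_le_iff_mem]; exact hm)
  obtain ⟨f, hf, hW⟩ := Submodule.exists_dual_map_eq_bot_of_notMem hz inferInstance
  exact ⟨f, hf, fun v hv => (Submodule.mem_bot k).1 (hW ▸ Submodule.mem_map_of_mem hv)⟩

theorem rep_mem (z : Projectivization k (Fin 4 → k)) : z.rep ∈ z.submodule := by
  rw [z.submodule_eq]; exact Submodule.mem_span_singleton_self _

/-- The Cayley-Bacharach property. -/
def CB (Z : Finset (Projectivization k (Fin 4 → k))) (n : ℕ) : Prop :=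
  ∀ z ∈ Z, ∀ p : MvPolynomial (Fin 4) k, p.IsHomogeneous n →
    (∀ z' ∈ Z, z' ≠ z → eval z'.rep p = 0) → eval z.rep p = 0

theorem card_le {Z : Finset (Projectivization k (Fin 4 → k))} {n : ℕ} (hZ : Z.Nonempty) (h : CB Z n) :
    n + 2 ≤ Z.card := by
  classical
  by_contra hc
  obtain ⟨z, hz⟩ := hZ
  obtain ⟨f₀, hf₀, -⟩ := exists_form (W := ⊥) (z := z) fun hle => z.rep_nonzero ((Submodule.mem_bot k).1 (hle (rep_mem z)))
  have hex : ∀ z' : Projectivization k (Fin 4 → k), ∃ f : Module.Dual k (Fin 4 → k), f z.rep ≠ 0 ∧ (z' ≠ z → f z'.rep = 0) := by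
    intro z'
    by_cases hne : z' = z
    · exact ⟨f₀, hf₀, fun h' => absurd hne h'⟩
    · have : ¬ z.submodule ≤ z'.submodule := fun hle => hne (Projectivization.submodule_injective
        (Submodule.eq_of_le_of_finrank_eq hle (by rw [z.finrank_submodule, z'.finrank_submodule])).symm)
      obtain ⟨f, hf, hf'⟩ := exists_form this
      exact ⟨f, hf, fun _ => hf' _ (rep_mem z')⟩
  choose f hf hf' using hex
  have hcard : (Z.erase z).card ≤ n := by
    rw [Finset.card_erase_of_mem hz]; omega
  let p : MvPolynomial (Fin 4) k := (∏ z' ∈ Z.erase z, linForm (f z')) * linForm f₀ ^ (n - (Z.erase z).card)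
  have hp : p.IsHomogeneous n := by
    have h1 := IsHomogeneous.prod (Z.erase z) (fun z' => linForm (f z')) (fun _ => 1) (fun z' _ => isHomogeneous_linForm _)
    have h2 := h1.mul ((isHomogeneous_linForm f₀).pow (n - (Z.erase z).card))
    simp only [Finset.sum_const, smul_eq_mul, mul_one, one_mul] at h2
    rwa [Nat.add_sub_cancel' hcard] at h2
  have h0 := h z hz p hp fun z' hz' hne => by
    rw [map_mul, map_prod, Finset.prod_eq_zero (Finset.mem_erase.2 ⟨hne, hz'⟩) (by rw [eval_linForm]; exact hf' z' hne), zero_mul]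
  rw [map_mul, map_prod, map_pow, eval_linForm] at h0
  rcases mul_eq_zero.1 h0 with h1 | h1
  · obtain ⟨z', -, hz'⟩ := Finset.prod_eq_zero_iff.1 h1
    rw [eval_linForm] at hz'
    exact hf z' hz'
  · exact hf₀ (pow_eq_zero_iff'.1 h1).1

open Classical in
theorem cb_residual {Z : Finset (Projectivization k (Fin 4 → k))} {n : ℕ} (h : CB Z (n + 1))
    (W : Submodule k (Fin 4 → k)) : CB (Z.filter fun z => ¬ z.submodule ≤ W) n := by
  intro z hz p hp hv
  obtain ⟨hzZ, hzW⟩ := Finset.mem_filter.1 hz
  obtain ⟨f, hf, hfW⟩ := exists_form hzW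
  have h0 := h z hzZ (p * linForm f) (hp.mul (isHomogeneous_linForm f)) fun z' hz' hne => by
    rw [map_mul, eval_linForm]
    by_cases hW : z'.submodule ≤ W
    · rw [hfW _ (hW (rep_mem z')), mul_zero]
    · rw [hv z' (Finset.mem_filter.2 ⟨hz', hW⟩) hne, zero_mul]
  rw [map_mul, eval_linForm] at h0
  exact (mul_eq_zero.1 h0).resolve_right hf

open Classical in
theorem exists_line {Z : Finset (Projectivization k (Fin 4 → k))} (hZ : 2 ≤ Z.card) :
    ∃ W : Submodule k (Fin 4 → k), Module.finrank k W = 2 ∧ 2 ≤ (Z.filter fun z => z.submodule ≤ W).card := by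
  classical
  obtain ⟨a, ha, b, hb, hab⟩ := Finset.one_lt_card.1 hZ
  refine ⟨a.submodule ⊔ b.submodule, ?_, ?_⟩
  · have hinf : a.submodule ⊓ b.submodule = ⊥ := by
      refine (Submodule.eq_bot_iff _).2 fun x hx => ?_
      by_contra hx0
      refine hab (Projectivization.submodule_injective ?_)
      have e1 : k ∙ x = a.submodule := Submodule.eq_of_le_of_finrank_eq
        ((Submodule.span_singleton_le_iff_mem _ _).2 hx.1) (by rw [finrank_span_singleton hx0, a.finrank_submodule])
      have e2 : k ∙ x = b.submodule := Submodule.eq_of_le_of_finrank_eq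
        ((Submodule.span_singleton_le_iff_mem _ _).2 hx.2) (by rw [finrank_span_singleton hx0, b.finrank_submodule])
      exact e1.symm.trans e2
    have := Submodule.finrank_sup_add_finrank_inf_eq a.submodule b.submodule
    rw [hinf, finrank_bot, a.finrank_submodule, b.finrank_submodule] at this
    omega
  · exact Finset.one_lt_card.2 ⟨a, Finset.mem_filter.2 ⟨ha, le_sup_left⟩, b, Finset.mem_filter.2 ⟨hb, le_sup_right⟩, hab⟩

theorem collinear : ∀ (n : ℕ) {Z : Finset (Projectivization k (Fin 4 → k))}, Z.Nonempty → CB Z n →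
    Z.card ≤ 2 * n + 1 →
      ∃ W : Submodule k (Fin 4 → k), Module.finrank k ↥W = 2 ∧ ∀ z ∈ Z, z.submodule ≤ W := by
  classical
  intro n
  induction n with
  | zero => intro Z hne h hc; have := card_le hne h; omega
  | succ n ih =>
    intro Z hne h hc
    obtain ⟨W, hW, hW2⟩ := exists_line (Z := Z) (by have := card_le hne h; omega)
    by_contra hno
    push_neg at hno
    obtain ⟨z, hz, hzW⟩ := hno W hW
    let Z' := Z.filter fun z => ¬ z.submodule ≤ W
    have hne' : Z'.Nonempty := ⟨z, Finset.mem_filter.2 ⟨hz, hzW⟩⟩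
    have hCB' : CB Z' n := cb_residual h W
    have hsum := Finset.card_filter_add_card_filter_not (s := Z) (fun z => z.submodule ≤ W)
    have hc' : Z'.card ≤ 2 * n + 1 := by
      show (Z.filter fun z => ¬ z.submodule ≤ W).card ≤ _
      omega
    obtain ⟨W', hW', hZW'⟩ := ih hne' hCB' hc'
    obtain ⟨z₂, hz₂, hz₂W⟩ := hno W' hW'
    let Z'' := Z.filter fun z => ¬ z.submodule ≤ W'
    have h1 := card_le hne' hCB'
    have h2 := card_le (Z := Z'') ⟨z₂, Finset.mem_filter.2 ⟨hz₂, hz₂W⟩⟩ (cb_residual h W')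
    have hd : Disjoint Z' Z'' := Finset.disjoint_left.2 fun x hx hx' =>
      (Finset.mem_filter.1 hx').2 (hZW' x hx)
    have h3 := Finset.card_union_of_disjoint hd
    have h4 := Finset.card_le_card (Finset.union_subset (Finset.filter_subset _ Z) (Finset.filter_subset _ Z) :
      Z' ∪ Z'' ⊆ Z)
    omega

end Groth.Agent.SmallAlg
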