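import Mathlib.Algebra.Category.ModuleCat.Abelian
import Mathlib.Algebra.Category.ModuleCat.Colimits
import Mathlib.Algebra.Homology.ShortComplex.ExactFunctor
import Mathlib.Algebra.Homology.ShortComplex.ModuleCat
import Mathlib.CategoryTheory.Preadditive.AdditiveFunctor
import Mathlib.LinearAlgebra.TensorProduct.RightExactness
/-!
The Eilenberg-Watts theorem.
-/

set_option autoImplicit false
set_option backward.isDefEq.respectTransparency false
universe u

open CategoryTheory CategoryTheory.Limits TensorProduct

namespace Groth.Agent.SmallAlg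

variable (A B : Type u) [CommRing A] [CommRing B] (F : ModuleCat.{u} A ⥤ ModuleCat.{u} B) [F.Additive]

/-- Endomorphisms of the base ring. -/
noncomputable def scal (a : A) : ModuleCat.of A A ⟶ ModuleCat.of A A :=
  ModuleCat.ofHom (a • LinearMap.id)

/-- The map of the base ring into a module selecting an element. -/
noncomputable def sel (M : ModuleCat.{u} A) (m : M) : ModuleCat.of A A ⟶ M :=
  ModuleCat.ofHom (LinearMap.toSpanSingleton A M m)

theorem sel_add (M : ModuleCat.{u} A) (m m' : M) : sel A M (m + m') = sel A M m + sel A M m' :=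
  ModuleCat.hom_ext (LinearMap.ext fun a => smul_add a m m')

theorem scal_sel (M : ModuleCat.{u} A) (a : A) (m : M) : scal A a ≫ sel A M m = sel A M (a • m) :=
  ModuleCat.hom_ext (LinearMap.ext fun x => by
    show (a • x) • m = x • a • m
    rw [smul_eq_mul, mul_comm, mul_smul])

theorem sel_comp {M N : ModuleCat.{u} A} (f : M ⟶ N) (m : M) : sel A M m ≫ f = sel A N (f m) :=
  ModuleCat.hom_ext (LinearMap.ext fun a => f.hom.map_smul a m)

noncomputable instance : Module A (F.obj (ModuleCat.of A A)) where
  smul a x := F.map (scal A a) x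
  one_smul x := by
    show F.map (scal A 1) x = x
    rw [show scal A 1 = 𝟙 _ from ModuleCat.hom_ext (one_smul A _), F.map_id]
    rfl
  mul_smul a b x := by
    show F.map (scal A (a * b)) x = F.map (scal A a) (F.map (scal A b) x)
    rw [show scal A (a * b) = scal A b ≫ scal A a from ModuleCat.hom_ext (mul_smul a b _), F.map_comp]
    rfl
  smul_zero a := (F.map (scal A a)).hom.map_zero
  smul_add a := (F.map (scal A a)).hom.map_add
  add_smul a b x := by
    show F.map (scal A (a + b)) x = F.map (scal A a) x + F.map (scal A b) x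
    rw [show scal A (a + b) = scal A a + scal A b from ModuleCat.hom_ext (add_smul a b _), F.map_add]
    rfl
  zero_smul x := by
    show F.map (scal A 0) x = 0
    rw [show scal A 0 = 0 from ModuleCat.hom_ext (zero_smul A _), F.map_zero]
    rfl

instance : SMulCommClass A B (F.obj (ModuleCat.of A A)) :=
  ⟨fun a b x => (F.map (scal A a)).hom.map_smul b x⟩

/-- The comparison map. -/
noncomputable def cmp (M : ModuleCat.{u} A) : (F.obj (ModuleCat.of A A) ⊗[A] M) →ₗ[B] F.obj M :=
  let φ : (F.obj (ModuleCat.of A A)) ⊗[A] M →+ F.obj M :=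
    TensorProduct.liftAddHom
      { toFun := fun x =>
          { toFun := fun m => F.map (sel A M m) x
            map_zero' := by
              rw [show sel A M 0 = 0 from ModuleCat.hom_ext (LinearMap.ext fun a => smul_zero a), F.map_zero]; rfl
            map_add' := fun m m' => by rw [sel_add, F.map_add]; rfl }
        map_zero' := AddMonoidHom.ext fun m => (F.map (sel A M m)).hom.map_zero
        map_add' := fun x x' => AddMonoidHom.ext fun m => (F.map (sel A M m)).hom.map_add x x' }
      (fun a x m => by
        show F.map (sel A M m) (F.map (scal A a) x) = F.map (sel A M (a • m)) x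
        rw [← scal_sel, F.map_comp]
        rfl)
  { φ with
    map_smul' := fun b z => by
      induction z using TensorProduct.induction_on with
      | zero => simp
      | tmul x m => exact (F.map (sel A M m)).hom.map_smul b x
      | add z z' hz hz' =>
        show φ (b • (z + z')) = b • φ (z + z')
        change φ (b • z) = b • φ z at hz
        change φ (b • z') = b • φ z' at hz'
        rw [smul_add, map_add, map_add, hz, hz', smul_add] }

theorem cmp_tmul (M : ModuleCat.{u} A) (x : F.obj (ModuleCat.of A A)) (m : M) :
    cmp A B F M (x ⊗ₜ[A] m) = F.map (sel A M m) x := rfl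

theorem cmp_natural {M N : ModuleCat.{u} A} (f : M ⟶ N) (z : F.obj (ModuleCat.of A A) ⊗[A] M) :
    cmp A B F N (LinearMap.lTensor _ f.hom z) = F.map f (cmp A B F M z) := by
  induction z using TensorProduct.induction_on with
  | zero => simp
  | tmul x m => rw [LinearMap.lTensor_tmul, cmp_tmul, cmp_tmul, ← sel_comp, F.map_comp]; rfl
  | add z z' hz hz' => simp only [map_add, hz, hz']

variable [PreservesFiniteColimits F]

theorem cmp_bijective_free (J : Type u) [PreservesColimitsOfShape (Discrete J) F] :
    Function.Bijective (cmp A B F (ModuleCat.of A (J →₀ A))) := by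
  let K := F.obj (ModuleCat.of A A)
  let ι : ∀ _ : J, ModuleCat.of A A ⟶ ModuleCat.of A (J →₀ A) := fun j => ModuleCat.ofHom (Finsupp.lsingle j)
  let c : Cofan (fun _ : J => ModuleCat.of A A) := Cofan.mk _ ι
  have hc : IsColimit c := mkCofanColimit _
    (fun s => ModuleCat.ofHom (Finsupp.linearCombination A fun j => s.inj j (1 : A)))
    (fun s j => ModuleCat.hom_ext (LinearMap.ext fun a => by
      show Finsupp.linearCombination A _ (Finsupp.single j a) = _
      rw [Finsupp.linearCombination_single, ← map_smul, smul_eq_mul, mul_one]))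
    (fun s m hm => ModuleCat.hom_ext (Finsupp.lhom_ext' fun j => LinearMap.ext fun a => by
      show m (Finsupp.single j a) = Finsupp.linearCombination A _ (Finsupp.single j a)
      rw [Finsupp.linearCombination_single, ← map_smul, smul_eq_mul, mul_one, ← hm j]
      rfl))
  have hsel : ∀ j, ι j = sel A _ (Finsupp.single j (1 : A)) := fun j => ModuleCat.hom_ext (LinearMap.ext fun a => by
    show Finsupp.single j a = a • Finsupp.single j (1 : A)
    rw [Finsupp.smul_single', mul_one])
  have hFc := isColimitCofanMkObjOfIsColimit F _ _ hc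
  let d : ∀ _ : J, K ⟶ ModuleCat.of B (K ⊗[A] (J →₀ A)) := fun j => ModuleCat.ofHom
    { toFun := fun x => x ⊗ₜ[A] Finsupp.single j (1 : A)
      map_add' := fun x y => TensorProduct.add_tmul _ _ _
      map_smul' := fun b x => rfl }
  let r : F.obj (ModuleCat.of A (J →₀ A)) ⟶ ModuleCat.of B (K ⊗[A] (J →₀ A)) := Cofan.IsColimit.desc hFc d
  have hr : ∀ j, F.map (ι j) ≫ r = d j := fun j => Cofan.IsColimit.fac hFc d j
  have h1 : ∀ z, r (cmp A B F _ z) = z := fun z => by
    induction z using TensorProduct.induction_on with
    | zero => simp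
    | add z z' hz hz' => simp only [map_add, hz, hz']
    | tmul x m =>
      induction m using Finsupp.induction_linear with
      | zero => simp
      | add m m' hm hm' => simp only [TensorProduct.tmul_add, map_add, hm, hm']
      | single j a =>
        rw [← mul_one a, ← Finsupp.smul_single' a j 1, ← TensorProduct.smul_tmul, cmp_tmul, ← hsel]
        exact congrArg (fun q : K ⟶ ModuleCat.of B (K ⊗[A] (J →₀ A)) => q.hom (a • x)) (hr j)
  have h2 : r ≫ ModuleCat.ofHom (cmp A B F (ModuleCat.of A (J →₀ A))) = 𝟙 _ := by
    refine Cofan.IsColimit.hom_ext hFc _ _ fun j => ?_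
    show F.map (ι j) ≫ r ≫ _ = F.map (ι j) ≫ 𝟙 _
    rw [reassoc_of% (hr j), Category.comp_id]
    refine ModuleCat.hom_ext (LinearMap.ext fun x => ?_)
    show cmp A B F (ModuleCat.of A (J →₀ A)) (x ⊗ₜ[A] Finsupp.single j (1 : A)) = _
    rw [cmp_tmul, hsel]
  exact Function.bijective_iff_has_inverse.2 ⟨fun y => r y, h1, fun y => congrArg (fun q : F.obj (ModuleCat.of A (J →₀ A)) ⟶ F.obj (ModuleCat.of A (J →₀ A)) => q.hom y) h2⟩

theorem cmp_bijective (hsum : ∀ J : Type u, PreservesColimitsOfShape (Discrete J) F) (M : ModuleCat.{u} A) :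
    Function.Bijective (cmp A B F M) := by
  let p : ModuleCat.of A ((M : Type u) →₀ A) ⟶ M := ModuleCat.ofHom (Finsupp.linearCombination A id)
  have hp : Function.Surjective p := fun m => ⟨Finsupp.single m 1, by simp [p]⟩
  let N := LinearMap.ker p.hom
  let q : ModuleCat.of A ((N : Type u) →₀ A) ⟶ ModuleCat.of A ((M : Type u) →₀ A) :=
    ModuleCat.ofHom (N.subtype ∘ₗ Finsupp.linearCombination A id)
  have hex : Function.Exact q p := LinearMap.exact_iff.2 (by
    show LinearMap.ker p.hom = LinearMap.range (N.subtype ∘ₗ Finsupp.linearCombination A id)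
    rw [LinearMap.range_comp, Finsupp.range_linearCombination, Set.range_id, Submodule.span_univ, Submodule.map_top,
      Submodule.range_subtype])
  let S : ShortComplex (ModuleCat.{u} A) := ShortComplex.mk q p (ModuleCat.hom_ext (LinearMap.ext hex.apply_apply_eq_zero))
  have hS : S.Exact := (ShortComplex.ShortExact.moduleCat_exact_iff_function_exact S).2 hex
  haveI : Epi S.g := (ModuleCat.epi_iff_surjective _).2 hp
  have hFS := hS.map_of_epi_of_preservesCokernel F inferInstance inferInstance
  rw [ShortComplex.ShortExact.moduleCat_exact_iff_function_exact] at hFS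
  haveI : Epi (F.map p) := preserves_epi_of_preservesColimit F p
  have hFp : Function.Surjective (F.map p) := (ModuleCat.epi_iff_surjective _).1 inferInstance
  have hq := cmp_bijective_free A B F (N : Type u)
  have hm := cmp_bijective_free A B F (M : Type u)
  refine ⟨(injective_iff_map_eq_zero _).2 fun z hz => ?_, fun y => ?_⟩
  · obtain ⟨w, rfl⟩ := LinearMap.lTensor_surjective (F.obj (ModuleCat.of A A)) (show Function.Surjective p.hom from hp) z
    rw [cmp_natural] at hz
    obtain ⟨v, hv⟩ := (hFS _).1 hz
    obtain ⟨v', rfl⟩ := hq.2 v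
    have : w = LinearMap.lTensor _ q.hom v' := hm.1 (hv.symm.trans (cmp_natural A B F q v').symm)
    rw [this, ← LinearMap.comp_apply, ← LinearMap.lTensor_comp]
    rw [show p.hom ∘ₗ q.hom = 0 from LinearMap.ext hex.apply_apply_eq_zero]
    simp
  · obtain ⟨y', rfl⟩ := hFp y
    obtain ⟨w, rfl⟩ := hm.2 y'
    exact ⟨_, cmp_natural A B F p w⟩

end Groth.Agent.SmallAlg
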